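import Groth.Prelude.Def_ModSt
import Groth.Agent.AlgStLib.Substack
import Groth.Agent.MorLib.FlatBC
import Groth.Agent.QCoh.PullbackBC
import Groth.Agent.QCoh.Pullback
import Groth.Agent.QCoh.FT
import Groth.Agent.GrFlat5.FlatAtIso
import Groth.Agent.QCoh.Support

/-!
# The category of families of modules is fibred in groupoids
-/

set_option autoImplicit false
set_option backward.isDefEq.respectTransparency false
set_option backward.isDefEq.respectTransparency.types false

universe u

open CategoryTheory CategoryTheory.Functor CategoryTheory.Limits AlgebraicGeometry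

noncomputable section

namespace Groth.Agent.ModStFib

open ModSt Groth.Agent.QCoh

variable {Y Z W X S : Scheme.{u}} {f : X ⟶ S}

/-- A cartesian comparison map is the adjoint of an isomorphism. -/
def pullIso {h : Y ⟶ Z} {N : Z.Modules} {M : Y.Modules}
    {c : N ⟶ (Scheme.Modules.pushforward h).obj M} (hc : IsCart h c) :
    (Scheme.Modules.pullback h).obj N ≅ M :=
  have : IsIso (((Scheme.Modules.pullbackPushforwardAdjunction h).homEquiv N M).symm c) := by
    apply isIso_of_coyoneda_map_bijective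
    intro M'
    have heq : (fun v : M ⟶ M' => c ≫ (Scheme.Modules.pushforward h).map v) =
        ((Scheme.Modules.pullbackPushforwardAdjunction h).homEquiv N M') ∘
          (fun v : M ⟶ M' => ((Scheme.Modules.pullbackPushforwardAdjunction h).homEquiv N M).symm c ≫ v) := by
      funext v
      simp [Adjunction.homEquiv_naturality_right]
    have hb := hc M'
    rw [heq] at hb
    exact (Function.Bijective.of_comp_iff' (Equiv.bijective _) _).1 hb
  asIso (((Scheme.Modules.pullbackPushforwardAdjunction h).homEquiv N M).symm c)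

/-- The unit is cartesian. -/
theorem isCart_unit (h : Y ⟶ Z) (N : Z.Modules) :
    IsCart h ((Scheme.Modules.pullbackPushforwardAdjunction h).unit.app N) := by
  intro M'
  have heq : (fun v : (Scheme.Modules.pullback h).obj N ⟶ M' =>
      (Scheme.Modules.pullbackPushforwardAdjunction h).unit.app N ≫ (Scheme.Modules.pushforward h).map v) =
      ((Scheme.Modules.pullbackPushforwardAdjunction h).homEquiv N M') := by
    funext v
    exact (Adjunction.homEquiv_unit ..).symm
  rw [heq]
  exact Equiv.bijective _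

/-- The lift of an object along a morphism of bases. -/
def restrictObj (A : Obj f) {V : Over S} (g : V ⟶ A.base) : Obj f where
  base := V
  XT := pullback A.q g.left
  p := pullback.fst A.q g.left ≫ A.p
  q := pullback.snd A.q g.left
  isPullback := by
    have h := (IsPullback.of_hasPullback A.q g.left).paste_horiz A.isPullback
    rwa [Over.w g] at h
  E := (Scheme.Modules.pullback (pullback.fst A.q g.left)).obj A.E

/-- The projection of the lift. -/
def restrictHom (A : Obj f) {V : Over S} (g : V ⟶ A.base) : restrictObj A g ⟶ A where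
  base := g
  top := pullback.fst A.q g.left
  w_p := rfl
  w_q := pullback.condition
  c := (Scheme.Modules.pullbackPushforwardAdjunction (pullback.fst A.q g.left)).unit.app A.E
  cart := isCart_unit _ _

/-- Every morphism is strongly cartesian. -/
theorem existsUnique_lift {A B C : Obj f} (φ : A ⟶ B) (ψ : C ⟶ B) (g : C.base ⟶ A.base)
    (hg : g ≫ φ.base = ψ.base) : ∃! χ : C ⟶ A, χ.base = g ∧ χ ≫ φ = ψ := by
  obtain ⟨b, t, wp, wq, c, hc⟩ := ψ
  subst hg
  obtain ⟨h, h₁, h₂⟩ : ∃ h : C.XT ⟶ A.XT, h ≫ φ.top = t ∧ h ≫ A.q = C.q ≫ g.left :=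
    ⟨φ.isPullback_top.lift t (C.q ≫ g.left) (by rw [wq, Category.assoc]; rfl),
      φ.isPullback_top.lift_fst _ _ _, φ.isPullback_top.lift_snd _ _ _⟩
  subst h₁
  let k := (Scheme.Modules.pushforwardComp h φ.top).app C.E
  obtain ⟨v, hv, hvuniq⟩ := (φ.cart ((Scheme.Modules.pushforward h).obj C.E)).existsUnique (c ≫ k.inv)
  have hcv : φ.c ≫ (Scheme.Modules.pushforward φ.top).map v ≫
      (Scheme.Modules.pushforwardComp h φ.top).hom.app C.E = c := by
    rw [← Category.assoc]
    change (fun v => φ.c ≫ (Scheme.Modules.pushforward φ.top).map v) v ≫ k.hom = c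
    refine (congrArg (· ≫ k.hom) hv).trans ?_
    rw [Category.assoc, Iso.inv_hom_id, Category.comp_id]
  have hcart : IsCart h v := by
    intro M'
    let e := ((Scheme.Modules.pushforwardComp h φ.top).app M').homToEquiv (Z := B.E)
    have heq : (fun v' : C.E ⟶ M' => c ≫ (Scheme.Modules.pushforward (h ≫ φ.top)).map v') =
        (e ∘ fun w => φ.c ≫ (Scheme.Modules.pushforward φ.top).map w) ∘
          (fun v' : C.E ⟶ M' => v ≫ (Scheme.Modules.pushforward h).map v') := by
      funext v'
      simp only [Function.comp_apply, e, Iso.homToEquiv_apply, Iso.app_hom, Functor.map_comp, Category.assoc]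
      conv_lhs => rw [← hcv]
      simp only [Category.assoc]
      rw [← (Scheme.Modules.pushforwardComp h φ.top).hom.naturality v']
      rfl
    have hb := hc M'
    rw [heq] at hb
    exact (Function.Bijective.of_comp_iff' (e.bijective.comp (φ.cart _)) _).1 hb
  refine ⟨⟨g, h, ?_, h₂, v, hcart⟩, ⟨rfl, ?_⟩, ?_⟩
  · rw [← φ.w_p, ← Category.assoc]; exact wp
  · change Obj.Hom.comp _ φ = _
    simp only [Obj.Hom.comp, Obj.Hom.mk.injEq, heq_eq_eq]
    exact ⟨trivial, trivial, hcv⟩
  · rintro ⟨g', h', wp', wq', v', hv'⟩ ⟨hb, he⟩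
    cases hb
    change Obj.Hom.comp _ φ = _ at he
    simp only [Obj.Hom.comp, Obj.Hom.mk.injEq] at he
    obtain ⟨-, e₁, e₂⟩ := he
    obtain rfl : h' = h := φ.isPullback_top.hom_ext e₁ (wq'.trans h₂.symm)
    have hh : v' = v := hvuniq v' (by
      have e₃ := eq_of_heq e₂
      change φ.c ≫ (Scheme.Modules.pushforward φ.top).map v' = c ≫ k.inv
      rw [← e₃, Category.assoc, Category.assoc]
      exact (congrArg (φ.c ≫ ·)
        ((congrArg ((Scheme.Modules.pushforward φ.top).map v' ≫ ·) k.hom_inv_id).trans (Category.comp_id _))).symm)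
    subst hh
    rfl

theorem isFibGrpd_fam (f : X ⟶ S) : FibCat.IsFibGrpd (Fam f).p := by
  refine ⟨fun {A V} g => ⟨restrictObj A g, restrictHom A g, IsHomLift.map (Fam f).p (restrictHom A g)⟩,
    fun {A B} φ => ?_⟩
  refine { toIsHomLift := IsHomLift.map (Fam f).p φ, universal_property' := fun {C} g ψ hψ => ?_ }
  have hb : ψ.base = g ≫ φ.base :=
    (IsHomLift.eq_of_isHomLift (Fam f).p (g ≫ (Fam f).p.map φ) ψ).symm
  obtain ⟨χ, ⟨rfl, hχ⟩, huniq⟩ := existsUnique_lift φ ψ g hb.symm
  refine ⟨χ, ⟨IsHomLift.map (Fam f).p χ, hχ⟩, fun χ' ⟨h', he⟩ => huniq χ' ⟨?_, he⟩⟩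
  exact (IsHomLift.eq_of_isHomLift (Fam f).p _ χ').symm

/-- Finite presentation is stable under pullback (same proof as `RGLib.isFP_pullback`, lighter imports). -/
theorem isFP_pullback (h : Y ⟶ Z) {M : Z.Modules} (hfp : CohB1.IsFP M) :
    CohB1.IsFP ((Scheme.Modules.pullback h).obj M) := by
  have hM := QCoh.isQCoh_of_isFP hfp
  choose U hU hxU _ using fun y : Y => exists_isAffineOpen_mem_and_subset (x := h y) (U := ⊤) trivial
  choose W hW hxW hle using fun y : Y => exists_isAffineOpen_mem_and_subset (x := y) (U := h ⁻¹ᵁ U y) (hxU y)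
  refine QCoh.isFP_of_finitePresentation (QCoh.isQCoh_pullback h hM) W
    (TopologicalSpace.IsOpenCover.mk (eq_top_iff.2 fun x _ => TopologicalSpace.Opens.mem_iSup.2 ⟨x, hxW x⟩)) hW fun x => ?_
  letI : Algebra Γ(Z, U x) Γ(Y, W x) := (h.appLE (U x) (W x) (hle x)).hom.toAlgebra
  letI : Module Γ(Z, U x) Γ((Scheme.Modules.pullback h).obj M, W x) :=
    Module.compHom _ (h.appLE (U x) (W x) (hle x)).hom
  haveI : IsScalarTower Γ(Z, U x) Γ(Y, W x) Γ((Scheme.Modules.pullback h).obj M, W x) :=
    ⟨fun a b c => mul_smul ((h.appLE (U x) (W x) (hle x)).hom a) b c⟩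
  let l : Γ(M, U x) →ₗ[Γ(Z, U x)] Γ((Scheme.Modules.pullback h).obj M, W x) :=
    { toFun := pullSec h M (hle x)
      map_add' := pullSec_add h M (hle x)
      map_smul' := pullSec_smul h M (hle x) }
  have hb : IsBaseChange Γ(Y, W x) l :=
    isBaseChange_pullback (hU x) h (hW x) hM (hle x) (fun _ => rfl) l fun _ => rfl
  haveI := QCoh.finitePresentation_of_isFP hfp (hU x)
  exact Module.FinitePresentation.of_equiv hb.equiv

theorem isCohObj_of_hom ⦃A B : Obj f⦄ (φ : A ⟶ B) (hB : IsCohObj B) : IsCohObj A := by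
  refine ⟨fun x => GrFlat5.isFlatOverAt_of_iso _ (pullIso φ.cart) x
      (MorLib.FlatBC.isFlatOverAt_baseChange B.q A.q φ.top φ.base.left φ.isPullback_top B.E x (hB.1 _)), ?_⟩
  exact (SheafOfModules.isFinitePresentation A.XT.ringCatSheaf).prop_of_iso (pullIso φ.cart)
    (isFP_pullback φ.top hB.2)

theorem isFibGrpd_coh (f : X ⟶ S) : FibCat.IsFibGrpd (Coh f).p :=
  AlgStLib.isFibGrpd_fullSub (isFibGrpd_fam f) isCohObj_of_hom

end Groth.Agent.ModStFib
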